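import Groth.Prelude.Def_W4c6detectregular2Detect
import Groth.Agent.H12AlgSp.RelDim
import Groth.Agent.H17.DimIneqScheme
import Mathlib.AlgebraicGeometry.IdealSheaf.Subscheme

/-!
The pointwise relative dimension `dimPt`: behaviour under immersions and specialisation.
-/

set_option autoImplicit false
set_option linter.style.haveILetI false

universe u

open CategoryTheory CategoryTheory.Limits AlgebraicGeometry W4c6detectregular2

namespace Groth.Agent.H02CA.Detect

variable {X Y S : Scheme.{u}}

theorem exists_resTrdeg_eq_nat (p : X ⟶ S) [LocallyOfFiniteType p] (x : X) :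
    ∃ n : ℕ, Dual3.resTrdeg p x = (n : Cardinal.{u}) := by
  obtain ⟨t, -, ht⟩ := H8Props.FieldDim.fibreDimAt_eq p x
  exact ⟨t, ht⟩

theorem trdegPt_eq (p : X ⟶ S) (x : X) : trdegPt p x = Cardinal.toNat (Dual3.resTrdeg p x) := rfl

/-- `dimPt` only depends on the point, up to morphisms with finite residue field extensions. -/
theorem dimPt_comp (g : X ⟶ Y) [LocallyQuasiFinite g] [LocallyOfFiniteType g] (p : Y ⟶ S) (x : X) :
    dimPt (g ≫ p) x = dimPt p (g x) := by
  have h := H12AlgSp.resTrdeg_comp g p x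
  rw [H12AlgSp.resTrdeg_eq_zero_of_lqf g x, add_zero] at h
  show (trdegPt (g ≫ p) x : ℤ) - codimPt S (p (g x)) = trdegPt p (g x) - codimPt S (p (g x))
  rw [trdegPt_eq, trdegPt_eq, h]

theorem exists_coheight_eq_nat [IsLocallyNoetherian S] (s : S) :
    ∃ n : ℕ, Order.coheight s = (n : ℕ∞) ∧ codimPt S s = n := by
  have h : ringKrullDim (S.presheaf.stalk s) < ⊤ := ringKrullDim_lt_top
  rw [ringKrullDim_stalk_eq_coheight s] at h
  have h' : Order.coheight s ≠ ⊤ := fun e => by rw [e] at h; exact lt_irrefl _ h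
  obtain ⟨n, hn⟩ := WithTop.ne_top_iff_exists.mp h'
  refine ⟨n, hn.symm, ?_⟩
  show ENat.toNat (WithBot.unbotD 0 (ringKrullDim (S.presheaf.stalk s))) = n
  rw [ringKrullDim_stalk_eq_coheight s, ← hn]
  rfl

/-- Concatenation of chains through the image of a point specialising to everything. -/
theorem coheight_add_le (c : X ⟶ Y) [IsClosedImmersion c] {η : X} (hη : ∀ a : X, η ⤳ a) (a : X) :
    Order.coheight a + Order.coheight (c η) ≤ Order.coheight (c a) := by
  have hmono : ∀ {a b : X}, a < b → c a < c b := fun {a b} h =>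
    lt_of_le_not_ge ((show b ⤳ a from h.le).map c.continuous) fun h' =>
      h.not_ge (c.isEmbedding.isInducing.specializes_iff.mp (show c a ⤳ c b from h'))
  have key : ∀ (σ : LTSeries X),
      (σ.length : ℕ∞) + Order.coheight (c η) ≤ Order.coheight (c σ.head) := by
    intro σ
    induction σ using RelSeries.inductionOn with
    | singleton b =>
      rw [RelSeries.singleton_length, Nat.cast_zero, zero_add, RelSeries.head_singleton]
      exact Order.coheight_anti ((show η ⤳ b from hη b).map c.continuous)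
    | cons σ b hb ih =>
      rw [RelSeries.cons_length, RelSeries.head_cons, Nat.cast_add, Nat.cast_one, add_right_comm]
      exact le_trans (add_le_add ih le_rfl) (Order.coheight_add_one_le (hmono hb))
  haveI : Nonempty (LTSeries X) := ⟨RelSeries.singleton _ a⟩
  rw [Order.coheight_eq a, ENat.iSup_add]
  refine iSup_le fun σ => ?_
  by_cases ha : a ≤ σ.head
  · rw [iSup_pos ha]
    exact le_trans (key σ) (Order.coheight_anti ((show σ.head ⤳ a from ha).map c.continuous))
  · rw [iSup_neg ha]
    rw [bot_eq_zero, zero_add]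
    exact Order.coheight_anti (show c a ≤ c η from (hη a).map c.continuous)

/-- For an integral scheme of finite type, `dimPt` drops at least by the codimension. -/
theorem dimPt_add_le [IsLocallyNoetherian S] [IsIntegral X] (p : X ⟶ S) [LocallyOfFiniteType p]
    [QuasiCompact p] (x : X) (l : ℕ) (hl : (l : WithBot ℕ∞) ≤ ringKrullDim (X.presheaf.stalk x)) :
    dimPt p x + l ≤ dimPt p (genericPoint X) := by
  haveI : IsClosedImmersion p.imageι := inferInstanceAs (IsClosedImmersion p.ker.subschemeι)
  haveI : LocallyOfFiniteType p.toImage :=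
    haveI : LocallyOfFiniteType (p.toImage ≫ p.imageι) := by rw [p.toImage_imageι]; infer_instance
    locallyOfFiniteType_of_comp p.toImage p.imageι
  haveI : IsLocallyNoetherian p.image := LocallyOfFiniteType.isLocallyNoetherian p.imageι
  have htr : ∀ z : X, Dual3.resTrdeg p z = Dual3.resTrdeg p.toImage z := fun z => by
    have h := H12AlgSp.resTrdeg_comp p.toImage p.imageι z
    rw [H12AlgSp.resTrdeg_eq_zero_of_lqf p.imageι, zero_add] at h
    rw [← h]
    congr 1
    exact p.toImage_imageι.symm
  have hpt : ∀ z : X, p.imageι (p.toImage z) = p z := fun z => by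
    rw [← Scheme.Hom.comp_apply, p.toImage_imageι]
  have hη : ∀ a : p.image, p.toImage (genericPoint X) ⤳ a := fun a => by
    refine specializes_iff_mem_closure.mpr ?_
    have h1 : Dense (Set.range p.toImage) := p.toImage.denseRange
    have h2 : Set.range p.toImage ⊆ closure {p.toImage (genericPoint X)} := by
      rintro _ ⟨z, rfl⟩
      exact ((genericPoint_specializes z).map p.toImage.continuous).mem_closure
    exact closure_minimal h2 isClosed_closure (h1 a)
  obtain ⟨E, hE⟩ := exists_resTrdeg_eq_nat p (genericPoint X)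
  obtain ⟨n, hn⟩ := exists_resTrdeg_eq_nat p x
  obtain ⟨cs, hcs, hcs'⟩ := exists_coheight_eq_nat (p x)
  obtain ⟨cη, hcη, hcη'⟩ := exists_coheight_eq_nat (p (genericPoint X))
  obtain ⟨b, hb, hb'⟩ := exists_coheight_eq_nat (p.toImage x)
  have hmax : ∀ ξ : X, closure {ξ} ∈ irreducibleComponents ↥X → ξ = genericPoint X := fun ξ hξ => by
    have h1 : closure ({ξ} : Set X) = Set.univ :=
      (hξ.eq_of_subset (IrreducibleSpace.isIrreducible_univ X) (Set.subset_univ _)).symm ▸ rfl
    exact ((show IsGenericPoint ξ Set.univ from h1).eq (genericPoint_spec X))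
  obtain ⟨b', hb'', hineq⟩ := H17.DimIneq.scheme_ineq p.toImage x E fun ξ hξ _ => by
    rw [hmax ξ hξ]
    exact le_of_eq ((htr (genericPoint X)).symm.trans hE)
  have h := hineq l hl
  rw [ringKrullDim_stalk_eq_coheight, hb] at hb''
  have hbb : (b : ℕ∞) = b' := WithBot.coe_injective hb''
  have htx : Dual3.resTrdeg p.toImage x = (n : Cardinal.{u}) := (htr x).symm.trans hn
  change (l : Cardinal.{u}) + Dual3.resTrdeg p.toImage x ≤ _ at h
  rw [htx, ← hbb, Cardinal.ofENat_nat] at h
  have h' : l + n ≤ b + E := by exact_mod_cast h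
  have hchain := coheight_add_le p.imageι hη (p.toImage x)
  rw [hpt, hpt, hb, hcη, hcs] at hchain
  have hchain' : b + cη ≤ cs := by exact_mod_cast hchain
  show (trdegPt p x : ℤ) - codimPt S (p x) + l ≤ trdegPt p (genericPoint X) - codimPt S (p (genericPoint X))
  rw [trdegPt_eq, trdegPt_eq, hn, hE, Cardinal.toNat_natCast, Cardinal.toNat_natCast, hcs', hcη']
  omega

theorem dimLE_of_genericPoint [IsLocallyNoetherian S] [IsIntegral X] (p : X ⟶ S) [LocallyOfFiniteType p]
    [QuasiCompact p] {n : ℤ} (h : dimPt p (genericPoint X) ≤ n) : DimLE p n := fun x => by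
  have := dimPt_add_le p x 0 (by
    rw [Nat.cast_zero]; exact ringKrullDim_nonneg_of_nontrivial)
  omega

theorem dimLE_iff [IsLocallyNoetherian S] [IsIntegral X] (p : X ⟶ S) [LocallyOfFiniteType p]
    [QuasiCompact p] {n : ℤ} : DimLE p n ↔ dimPt p (genericPoint X) ≤ n :=
  ⟨fun h => h _, dimLE_of_genericPoint p⟩

theorem dimPt_add_one_le [IsLocallyNoetherian S] [IsIntegral X] (p : X ⟶ S) [LocallyOfFiniteType p]
    [QuasiCompact p] {x : X} (hx : x ≠ genericPoint X) : dimPt p x + 1 ≤ dimPt p (genericPoint X) := by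
  refine dimPt_add_le p x 1 ?_
  rw [ringKrullDim_stalk_eq_coheight]
  have hlt : x < genericPoint X := lt_of_le_not_ge (genericPoint_specializes x) fun h =>
    hx (Specializes.antisymm (show x ⤳ genericPoint X from h) (genericPoint_specializes x)).eq
  have h1 : (1 : ℕ∞) ≤ Order.coheight x :=
    le_trans (le_add_self) (Order.coheight_add_one_le hlt)
  exact_mod_cast h1

/-- The generic relative dimension is invariant under modifications. -/
theorem dimPt_genericPoint_eq [IsIntegral X] [IsIntegral Y] (f : X ⟶ Y) (p : Y ⟶ S) (U : Y.Opens)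
    (hU : (f ⁻¹ᵁ U : Set X).Nonempty) [IsIso (f ∣_ U)] :
    dimPt (f ≫ p) (genericPoint X) = dimPt p (genericPoint Y) := by
  obtain ⟨z, hz⟩ := hU
  haveI : Nonempty (f ⁻¹ᵁ U).toScheme := ⟨⟨z, hz⟩⟩
  haveI : IrreducibleSpace (f ⁻¹ᵁ U).toScheme := (f ⁻¹ᵁ U).ι.isOpenEmbedding.irreducibleSpace
  have h1 : dimPt ((f ⁻¹ᵁ U).ι ≫ f ≫ p) (genericPoint (f ⁻¹ᵁ U).toScheme) = dimPt (f ≫ p) (genericPoint X) := by
    rw [dimPt_comp, genericPoint_eq_of_isOpenImmersion]
  have h2 : (f ⁻¹ᵁ U).ι ≫ f ≫ p = ((f ∣_ U) ≫ U.ι) ≫ p := by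
    rw [morphismRestrict_ι, Category.assoc]
  rw [← h1, h2, dimPt_comp, genericPoint_eq_of_isOpenImmersion]

end Groth.Agent.H02CA.Detect
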