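import Groth.Prelude.Def_W4c6detectregular2Detect
import Groth.Agent.H05EGA4.CompleteNormalization
import Groth.Agent.H05EGA4.J2
import Groth.Agent.H8Props.NormalLowDim
import Groth.Agent.H8Props.NagataAffine
import Groth.Agent.H24GE.Push
import Groth.Agent.S2654
import Groth.Agent.S0566
import Groth.Agent.S4415
import Groth.Agent.S4418
import Groth.Agent.S9674
import Groth.Agent.S9706
import Groth.Agent.S2355
import Groth.Agent.S5950
import Groth.Agent.S2351

/-!
Regular-in-codimension-one quasi-projective models over a quasi-excellent base.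
-/

set_option autoImplicit false
set_option linter.style.haveILetI false

universe u

open CategoryTheory CategoryTheory.Limits AlgebraicGeometry TopologicalSpace

namespace Groth.Agent.H02CA.Detect

variable {Y S : Scheme.{u}} (r : Y ⟶ S) [LocallyOfFiniteType r]
  (hqe : ∀ U : S.affineOpens, EGA4.IsQuasiExcellent Γ(S, U))

include r hqe

theorem exists_chart (y : Y) :
    ∃ (U : Y.Opens) (_ : IsAffineOpen U) (R : Type u) (_ : CommRing R) (_ : Algebra R Γ(Y, U)),
      y ∈ U ∧ EGA4.IsQuasiExcellent R ∧ Algebra.FiniteType R Γ(Y, U) := by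
  obtain ⟨V, hV, hyV, -⟩ := exists_isAffineOpen_mem_and_subset (x := r y) (U := ⊤) trivial
  obtain ⟨U, hU, hyU, hle⟩ := exists_isAffineOpen_mem_and_subset (x := y) (U := r ⁻¹ᵁ V) hyV
  letI := (r.appLE V U hle).hom.toAlgebra
  exact ⟨U, hU, Γ(S, V), inferInstance, inferInstance, hyU, hqe ⟨V, hV⟩,
    RingHom.finiteType_algebraMap.1 (r.finiteType_appLE hV hU hle)⟩

/-- The regular locus is open. -/
theorem isOpen_regular : IsOpen {y : Y | IsRegularLocalRing (Y.presheaf.stalk y)} := by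
  refine isOpen_iff_forall_mem_open.mpr fun y hy => ?_
  obtain ⟨U, hU, R, _, _, hyU, hR, hfin⟩ := exists_chart r hqe y
  have hmem : ∀ P : PrimeSpectrum Γ(Y, U),
      P ∈ EGA4.regLocus Γ(Y, U) ↔ IsRegularLocalRing (Y.presheaf.stalk (hU.fromSpec P)) := by
    intro P
    have hP : hU.fromSpec P ∈ U := by
      show _ ∈ (U : Set Y)
      rw [← hU.range_fromSpec]; exact ⟨P, rfl⟩
    letI := Y.presheaf.algebra_section_stalk ⟨hU.fromSpec P, hP⟩
    haveI : IsLocalization.AtPrime (Y.presheaf.stalk (hU.fromSpec P)) P.asIdeal :=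
      hU.isLocalization_stalk' P hP
    let e : Y.presheaf.stalk (hU.fromSpec P) ≃+* Localization.AtPrime P.asIdeal :=
      (IsLocalization.algEquiv P.asIdeal.primeCompl (Y.presheaf.stalk (hU.fromSpec P))
        (Localization.AtPrime P.asIdeal)).toRingEquiv
    exact ⟨fun h => by haveI : IsRegularLocalRing (Localization.AtPrime P.asIdeal) := h
                       exact IsRegularLocalRing.of_ringEquiv e.symm,
      fun h => by haveI := h; exact IsRegularLocalRing.of_ringEquiv e⟩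
  refine ⟨hU.fromSpec '' EGA4.regLocus Γ(Y, U), ?_, hU.fromSpec.isOpenEmbedding.isOpenMap _ (hR.2.2 _ hfin), ?_⟩
  · rintro _ ⟨P, hP, rfl⟩
    exact (hmem P).1 hP
  · obtain ⟨P, hP⟩ : y ∈ Set.range hU.fromSpec := by rw [hU.range_fromSpec]; exact hyU
    exact ⟨P, (hmem P).2 (by rw [hP]; exact hy), hP⟩

theorem isNagata_opens (V : Y.affineOpens) : CAlg.IsNagata Γ(Y, V) := by
  choose U hU R h1 h2 hy hR hfin using exists_chart r hqe
  refine H8Props.NagataAffine.isNagata_affineOpen Y U (eq_top_iff.2 fun y _ => Opens.mem_iSup.2 ⟨y, hy y⟩)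
    hU V.1 V.2 fun y => ?_
  letI := h1 y; letI := h2 y; haveI := hfin y
  exact S0566.result (R y) (S2654.result (R y) (hR y)) _

/-- A quasi-projective, normal model with singular locus in codimension at least two. -/
theorem exists_model [IsNoetherian S] [S.IsSeparated] [IsIntegral Y] [IsSeparated r] [QuasiCompact r]
    :
    ∃ (Y' : Scheme.{u}) (f : Y' ⟶ Y) (U : Y.Opens) (_ : IsIntegral Y') (R : Y'.Opens),
      IsProper f ∧ (f ⁻¹ᵁ U : Set Y').Nonempty ∧ IsIso (f ∣_ U) ∧
      W4c6detectregular2.QProj (f ≫ r) ∧ (∀ y : Y', y ∈ R → IsRegularLocalRing (Y'.presheaf.stalk y)) ∧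
      ∀ y : Y', y ∉ R → (2 : WithBot ℕ∞) ≤ ringKrullDim (Y'.presheaf.stalk y) := by
  obtain ⟨Y₁, f₁, hqp, hpj, hs, ⟨U, hUd, hUi⟩, -, -, hint⟩ := S4415.result r (Or.inl inferInstance)
  haveI := hs
  haveI := hint ‹_›
  haveI : IsProper f₁ := (S4418.result f₁ hpj).2
  haveI hr₁ : LocallyOfFiniteType (f₁ ≫ r) := inferInstance
  haveI : IsLocallyNoetherian Y₁ := LocallyOfFiniteType.isLocallyNoetherian (f₁ ≫ r)
  let g := Y₁.fromSpecStalk (genericPoint Y₁)
  haveI : QuasiSeparatedSpace Y₁ := inferInstance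
  haveI : QuasiCompact g := inferInstance
  haveI : QuasiSeparated g := inferInstance
  let hN := isNagata_opens (f₁ ≫ r) hqe
  haveI : IsFinite g.fromNormalization := S9674.result g hN (locallyFinite_of_finite _) fun x _ => by
    have hsurj : Function.Surjective (g.residueFieldMap x).hom := fun b => by
      obtain ⟨b, rfl⟩ := Scheme.residue_surjective _ x b
      obtain ⟨a, rfl⟩ := g.stalkMap_surjective x b
      exact ⟨Y₁.residue (g x) a, ConcreteCategory.congr_hom (Scheme.residue_residueFieldMap g x) a⟩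
    exact RingHom.FiniteType.essFiniteType (RingHom.FiniteType.of_surjective _ hsurj)
  let ν := Curv2.normalizationι Y₁
  haveI hνf : IsFinite ν := ‹IsFinite g.fromNormalization›
  have hgenreg : IsRegularLocalRing (Y₁.presheaf.stalk (genericPoint Y₁)) :=
    inferInstanceAs (IsRegularLocalRing Y₁.functionField)
  have hV : ∃ V : Y₁.Opens, (V : Set ↥Y₁).Nonempty ∧ ∀ x ∈ V, IsIntegrallyClosed (Y₁.presheaf.stalk x) :=
    ⟨⟨_, isOpen_regular (f₁ ≫ r) hqe⟩, ⟨genericPoint Y₁, hgenreg⟩, fun x hx => by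
      haveI : IsRegularLocalRing (Y₁.presheaf.stalk x) := hx
      exact H05EGA4.isIntegrallyClosed_of_isRegularLocalRing _⟩
  obtain ⟨hnorm, -, U₂, hU₂, hU₂', hiso⟩ := (S5950.result Y₁ hV ν).1 ⟨Iso.refl _, Category.id_comp _⟩
  haveI hY' : IsIntegral (Curv2.normalization Y₁) :=
    inferInstanceAs (IsIntegral g.normalization)
  let Y' := Curv2.normalization Y₁
  let f : Y' ⟶ Y := ν ≫ f₁
  haveI : IsProper f := MorphismProperty.comp_mem @IsProper _ _ inferInstance inferInstance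
  haveI : LocallyOfFiniteType (f ≫ r) := inferInstance
  haveI : IsLocallyNoetherian Y' := LocallyOfFiniteType.isLocallyNoetherian (f ≫ r)
  -- the open over which everything is an isomorphism
  let W : Y.Opens := U ⊓ ⟨(f₁ '' (U₂ : Set Y₁)ᶜ)ᶜ, (f₁.isClosedMap _ U₂.2.isClosed_compl).isOpen_compl⟩
  have hW : f₁ ⁻¹ᵁ W ≤ U₂ := fun z hz => by
    by_contra h
    exact hz.2 ⟨z, h, rfl⟩
  haveI : IsIso (f₁ ∣_ U) := hUi
  haveI : IsIso (f₁ ∣_ W) := H24GE.isIso_restrict_of_le f₁ (inf_le_left (b := (⟨_, _⟩ : Y.Opens)))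
  haveI : IsIso (ν ∣_ U₂) := hiso
  haveI : IsIso (ν ∣_ f₁ ⁻¹ᵁ W) := H24GE.isIso_restrict_of_le ν hW
  have hfW : IsIso (f ∣_ W) := by
    rw [morphismRestrict_comp]
    exact inferInstanceAs (IsIso ((ν ∣_ f₁ ⁻¹ᵁ W) ≫ (f₁ ∣_ W)))
  have hne : (f ⁻¹ᵁ W : Set Y').Nonempty := by
    refine ⟨genericPoint Y', ?_⟩
    have h2 : genericPoint Y' ∈ ν ⁻¹ᵁ U₂ :=
      ((genericPoint_spec Y').mem_open_set_iff (ν ⁻¹ᵁ U₂).2).2 (by
        simpa using hU₂'.nonempty)
    have h1 : genericPoint Y₁ ∈ f₁ ⁻¹ᵁ U :=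
      ((genericPoint_spec Y₁).mem_open_set_iff (f₁ ⁻¹ᵁ U).2).2 (by simpa using hUd.nonempty)
    have hνgen : ν (genericPoint Y') = genericPoint Y₁ := by
      obtain ⟨_, hgen, -⟩ := H11Curve.exists_residueFieldMap_bijective Y₁
      exact hgen
    show f₁ (ν (genericPoint Y')) ∈ W
    rw [hνgen]
    refine ⟨h1, ?_⟩
    rintro ⟨z, hz, hzU⟩
    refine hz ?_
    have hzU' : z ∈ f₁ ⁻¹ᵁ U := show f₁ z ∈ U by rw [hzU]; exact h1
    obtain rfl : z = genericPoint Y₁ := by
      have hinj : Function.Injective (f₁ ∣_ U) := (f₁ ∣_ U).isOpenEmbedding.injective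
      refine congrArg Subtype.val (@hinj ⟨z, hzU'⟩ ⟨genericPoint Y₁, h1⟩ (Subtype.ext ?_))
      rw [morphismRestrict_base_coe, morphismRestrict_base_coe]
      exact hzU
    rw [← hνgen]
    exact h2
  refine ⟨Y', f, W, inferInstance, ⟨_, isOpen_regular (f ≫ r) hqe⟩, inferInstance, hne, hfW, ?_,
    fun y hy => hy, fun y hy => ?_⟩
  · obtain ⟨-, -, L, hL⟩ := hqp
    have hqa : Mor2.IsQuasiAffine ν := ⟨inferInstance, fun V hV => by
      haveI : IsAffine (ν ⁻¹ᵁ V).toScheme := hV.preimage ν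
      infer_instance⟩
    have hamp := S2355.result (f₁ ≫ r) ν hqa L hL
    rw [← Category.assoc] at hamp
    obtain ⟨Z, v, q, hv, hq, he⟩ := S9706.result (f ≫ r) ⟨inferInstance, inferInstance, _, hamp⟩
    exact ⟨Z, v, q, hv, hq, he⟩
  · obtain ⟨hdom, hic⟩ := hnorm y
    by_contra hdim
    apply hy
    show IsRegularLocalRing (Y'.presheaf.stalk y)
    haveI : IsNoetherianRing (Y'.presheaf.stalk y) := inferInstance
    refine @H8Props.NormalLowDim.isRegularLocalRing_of_dim_le_one _ _ _ _ hdom hic ?_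
    rw [ringKrullDim_stalk_eq_coheight] at hdim ⊢
    have hd' : ¬ ((2 : ℕ∞) ≤ Order.coheight y) := fun h => hdim (WithBot.coe_le_coe.2 h)
    refine WithBot.coe_le_coe.2 ?_
    have h2 := not_le.1 hd'
    induction hc : Order.coheight y with
    | top => rw [hc] at h2; simp at h2
    | coe a => rw [hc] at h2; norm_cast at h2 ⊢; omega

end Groth.Agent.H02CA.Detect
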