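import Groth.Agent.H02CA.Detect.DimPt
import Groth.Agent.H02CA.Detect.Model

/-!
The detection lemma.
-/

set_option autoImplicit false
set_option linter.style.haveILetI false
set_option maxHeartbeats 1000000

universe u

open CategoryTheory CategoryTheory.Limits AlgebraicGeometry TopologicalSpace W4c6detectregular2

namespace Groth.Agent.H02CA.Detect

variable {T : Scheme.{u}}

theorem ft_of_comp {A B : Scheme.{u}} (i : A ⟶ B) [LocallyOfFiniteType i] [QuasiCompact i] [IsSeparated i]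
    {h : B ⟶ T} (hh : FT h) : FT (i ≫ h) := by
  obtain ⟨h1, h2, h3⟩ := hh
  exact ⟨inferInstance, inferInstance, inferInstance⟩

/-- The structure morphism of an object of `SchFT T`. -/
abbrev str (X : SchFT T) : X.left ⟶ T := X.hom

/-- An open of an object of `SchFT T`. -/
noncomputable def openObj (X : SchFT T) [IsLocallyNoetherian X.left] [CompactSpace X.left] (U : X.left.Opens) :
    SchFT T :=
  MorphismProperty.Over.mk _ (U.ι ≫ X.hom) (ft_of_comp U.ι X.prop)

/-- A closed subscheme of an object of `SchFT T`. -/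
noncomputable def closedObj (X : SchFT T) (I : X.left.IdealSheafData) : SchFT T :=
  MorphismProperty.Over.mk _ (I.subschemeι ≫ X.hom) (ft_of_comp I.subschemeι X.prop)

theorem range_vanishing {X : Scheme.{u}} (U : X.Opens) :
    Set.range (Scheme.IdealSheafData.vanishingIdeal ⟨(U : Set X)ᶜ, U.2.isClosed_compl⟩).subschemeι.base =
      (Set.range U.ι.base)ᶜ :=
  ((Scheme.IdealSheafData.range_subschemeι _).trans (Scheme.IdealSheafData.coe_support_vanishingIdeal _)).trans
    (congrArg compl U.range_ι).symm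

/-- The inclusion of a closed subscheme. -/
noncomputable def closedHom (X : SchFT T) (I : X.left.IdealSheafData) : closedObj X I ⟶ X :=
  MorphismProperty.Over.homMk I.subschemeι rfl (inferInstanceAs (IsProper I.subschemeι))

theorem closedHom_left (X : SchFT T) (I : X.left.IdealSheafData) : (closedHom X I).left = I.subschemeι := rfl

variable {S : Scheme.{u}} [AlgebraicGeometry.IsNoetherian T] [IsLocallyNoetherian S] (t : T ⟶ S) [LocallyOfFiniteType t]
  [QuasiCompact t]

omit [IsLocallyNoetherian S] [QuasiCompact t] in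
theorem isLocallyNoetherian_left (X : SchFT T) : IsLocallyNoetherian X.left ∧ CompactSpace X.left := by
  obtain ⟨h1, h2, -⟩ := X.prop
  haveI : LocallyOfFiniteType (str X) := h1
  haveI : QuasiCompact (str X) := h2
  exact ⟨LocallyOfFiniteType.isLocallyNoetherian (str X),
    QuasiCompact.compactSpace_of_compactSpace (str X)⟩

omit [AlgebraicGeometry.IsNoetherian T] [LocallyOfFiniteType t] [QuasiCompact t] in
theorem dimLE_closed {X : Scheme.{u}} [IsIntegral X] (p : X ⟶ S) [LocallyOfFiniteType p] [QuasiCompact p]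
    (F : Closeds X) (l : ℕ) {n : ℤ} (hn : dimPt p (genericPoint X) ≤ n)
    (hF : ∀ x ∈ F, (l : WithBot ℕ∞) ≤ ringKrullDim (X.presheaf.stalk x)) :
    DimLE ((Scheme.IdealSheafData.vanishingIdeal F).subschemeι ≫ p) (n - l) := by
  let i := (Scheme.IdealSheafData.vanishingIdeal F).subschemeι
  intro z
  show dimPt (i ≫ p) z ≤ n - l
  rw [dimPt_comp]
  have hz : i z ∈ F := by
    have h : i z ∈ Set.range i := ⟨z, rfl⟩
    rw [Scheme.IdealSheafData.range_subschemeι, Scheme.IdealSheafData.coe_support_vanishingIdeal] at h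
    exact h
  have := dimPt_add_le p (i z) l (hF _ hz)
  omega

variable {G H : ResFun T} (one : ∀ X : SchFT T, G.F.obj X) (hG2 : G.F2) (hH2 : H.F2) (hG3 : G.F3)
  (hG4a : G.F4a one) (hG4b : G.F4b one) (hG5 : G.F5 t one) (φ : G.F ⟶ H.F) (hiv : G.ResCompat H φ)

omit [AlgebraicGeometry.IsNoetherian T] [IsLocallyNoetherian S] [LocallyOfFiniteType t] [QuasiCompact t] in
theorem phi_map {X Y : SchFT T} (f : Y ⟶ X) (a : G.F.obj Y) :
    (φ.app X).hom ((G.F.map f).hom a) = (H.F.map f).hom ((φ.app Y).hom a) :=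
  ConcreteCategory.congr_hom (φ.naturality f) a

omit [AlgebraicGeometry.IsNoetherian T] [IsLocallyNoetherian S] [LocallyOfFiniteType t] [QuasiCompact t] in
theorem phi_eq_zero_of_gen {X : SchFT T} {s : Set (G.F.obj X)} (hs : AddSubgroup.closure s = ⊤)
    (h : ∀ a ∈ s, (φ.app X).hom a = 0) (a : G.F.obj X) : (φ.app X).hom a = 0 := by
  have : AddSubgroup.closure s ≤ (φ.app X).hom.ker := (AddSubgroup.closure_le _).2 h
  exact this (hs ▸ AddSubgroup.mem_top a)

variable [AlgebraicGeometry.IsNoetherian S] [S.IsSeparated] [T.IsSeparated]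
  (hqe : ∀ U : S.affineOpens, EGA4.IsQuasiExcellent Γ(S, U))
  {d : ℤ} (hii : H.VanLE t d) (hv : G.KillsRegular H t one φ)

include hG2 hH2 hG3 hG4a hG4b hG5 hiv hqe hii hv

/-- One step of the descending induction on the dimension. -/
theorem step {n : ℤ} (hn : n ≤ d)
    (IH : ∀ W : SchFT T, IsIntegral W.left → DimLE (W.hom ≫ t) (n - 1) → (φ.app W).hom (one W) = 0)
    (Y : SchFT T) (hY : IsIntegral Y.left) (hdim : DimLE (Y.hom ≫ t) n) : (φ.app Y).hom (one Y) = 0 := by
  obtain ⟨h1, h2, h3⟩ := Y.prop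
  haveI : LocallyOfFiniteType (str Y) := h1
  haveI : QuasiCompact (str Y) := h2
  haveI : IsSeparated (str Y) := h3
  obtain ⟨hYn, hYc⟩ := isLocallyNoetherian_left Y
  obtain ⟨Y', f, U, hY'i, R, hfp, hfne, hfiso, hq, hR, hR'⟩ := exists_model (str Y ≫ t) hqe
  have hgen' : dimPt (f ≫ Y.hom ≫ t) (genericPoint Y') ≤ n := by
    rw [dimPt_genericPoint_eq f (Y.hom ≫ t) U hfne]
    exact hdim _
  let Y'o : SchFT T := MorphismProperty.Over.mk _ (f ≫ Y.hom) (ft_of_comp f Y.prop)
  haveI : IsIntegral Y'o.left := hY'i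
  obtain ⟨hY'n, hY'c⟩ := isLocallyNoetherian_left Y'o
  let fo : Y'o ⟶ Y := MorphismProperty.Over.homMk f rfl hfp
  have hkey : (φ.app Y'o).hom (one Y'o) = 0 := by
    let U' := openObj Y'o R
    have hRi : IsOpenImmersion R.ι := inferInstance
    have hU' : (φ.app U').hom (one U') = 0 := by
      refine hv U' (fun r => ?_) ?_
      · haveI : IsRegularLocalRing (Y'.presheaf.stalk r.1) := hR r.1 r.2
        exact IsRegularLocalRing.of_ringEquiv (R.stalkIso r).commRingCatIsoToRingEquiv.symm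
      · obtain ⟨Z, v, q, hv', hq', he⟩ := hq
        haveI := hv'
        haveI := hRi
        refine ⟨Z, (R.ι : R.toScheme ⟶ Y') ≫ v, q, (inferInstance : IsOpenImmersion ((R.ι : R.toScheme ⟶ Y') ≫ v)), hq', ?_⟩
        show (R.ι ≫ v) ≫ q = (R.ι ≫ f ≫ Y.hom) ≫ t
        simp only [Category.assoc, he]
    let F : Closeds Y' := ⟨(R : Set Y')ᶜ, R.2.isClosed_compl⟩
    let Z := closedObj Y'o (Scheme.IdealSheafData.vanishingIdeal F)
    have hZ : DimLE (Z.hom ≫ t) (d - 2) := by
      show DimLE (((Scheme.IdealSheafData.vanishingIdeal F).subschemeι ≫ f ≫ str Y) ≫ t) (d - 2)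
      rw [Category.assoc, Category.assoc]
      exact fun z => (dimLE_closed (f ≫ str Y ≫ t) F 2 hgen'
        (fun x hx => by exact_mod_cast hR' x hx) z).trans (by omega)
    haveI := hii Z hZ
    have hker : (φ.app Y'o).hom (one Y'o) ∈ (H.res (U := U') (X := Y'o) R.ι hRi rfl).hom.ker := by
      show (H.res (U := U') (X := Y'o) R.ι hRi rfl).hom ((φ.app Y'o).hom (one Y'o)) = 0
      have hc := ConcreteCategory.congr_hom (hiv (U := U') (X := Y'o) R.ι hRi rfl) (one Y'o)
      refine (hc.symm.trans ?_)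
      show (φ.app U').hom ((G.res (U := U') (X := Y'o) R.ι hRi rfl).hom (one Y'o)) = 0
      rw [hG4a (U := U') (X := Y'o) R.ι hRi rfl (Or.inl hY'i)]
      exact hU'
    obtain ⟨b, hb⟩ := hH2 (closedHom Y'o (Scheme.IdealSheafData.vanishingIdeal F)) (U := U') R.ι hRi rfl
      (inferInstanceAs (IsClosedImmersion (Scheme.IdealSheafData.vanishingIdeal F).subschemeι))
      (range_vanishing R) hker
    rw [← hb, Subsingleton.elim b 0, map_zero]
  -- compare the two unit classes
  have hUi : IsOpenImmersion U.ι := inferInstance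
  have hVi : IsOpenImmersion (f ⁻¹ᵁ U).ι := inferInstance
  let U₀ := openObj Y U
  let V₀ := openObj Y'o (f ⁻¹ᵁ U)
  haveI : IsProper (f ∣_ U) := inferInstance
  let g : V₀ ⟶ U₀ := MorphismProperty.Over.homMk (f ∣_ U)
    (show (f ∣_ U) ≫ U.ι ≫ Y.hom = (f ⁻¹ᵁ U).ι ≫ f ≫ Y.hom by rw [morphismRestrict_ι_assoc])
    (inferInstanceAs (IsProper (f ∣_ U)))
  haveI hUne : Nonempty U := by
    obtain ⟨z, hz⟩ := hfne
    exact ⟨⟨f z, hz⟩⟩
  haveI : Nonempty U.toScheme := hUne
  haveI hUint : IsIntegral U₀.left := inferInstanceAs (IsIntegral U.toScheme)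
  have hres : (G.res (U := U₀) (X := Y) U.ι hUi rfl).hom ((G.F.map fo).hom (one Y'o) - one Y) = 0 := by
    rw [map_sub, sub_eq_zero]
    have hsq : IsPullback (f ⁻¹ᵁ U).ι g.left fo.left U.ι := (isPullback_morphismRestrict f U).flip
    have hc := ConcreteCategory.congr_hom
      (hG3 (U := U₀) (V := V₀) (X := Y) (Y := Y'o) U.ι hUi rfl (f ⁻¹ᵁ U).ι hVi rfl fo g hsq) (one Y'o)
    refine hc.trans ?_
    show (G.F.map g).hom ((G.res (U := V₀) (X := Y'o) (f ⁻¹ᵁ U).ι hVi rfl).hom (one Y'o)) = _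
    rw [hG4a (U := V₀) (X := Y'o) (f ⁻¹ᵁ U).ι hVi rfl (Or.inl hY'i),
      hG4b g (inferInstanceAs (IsIso (f ∣_ U))) (Or.inl hUint),
      hG4a (U := U₀) (X := Y) U.ι hUi rfl (Or.inl hY)]
  let F₀ : Closeds Y.left := ⟨(U : Set Y.left)ᶜ, U.2.isClosed_compl⟩
  let Z₀ := closedObj Y (Scheme.IdealSheafData.vanishingIdeal F₀)
  obtain ⟨b, hb⟩ := hG2 (closedHom Y (Scheme.IdealSheafData.vanishingIdeal F₀)) (U := U₀) U.ι hUi rfl
    (inferInstanceAs (IsClosedImmersion (Scheme.IdealSheafData.vanishingIdeal F₀).subschemeι))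
    (range_vanishing U) hres
  have hZ₀ : DimLE (Z₀.hom ≫ t) (n - (1 : ℕ)) := by
    show DimLE (((Scheme.IdealSheafData.vanishingIdeal F₀).subschemeι ≫ str Y) ≫ t) _
    rw [Category.assoc]
    refine dimLE_closed _ F₀ 1 (hdim _) fun x hx => ?_
    have hne : x ≠ genericPoint Y.left := fun h => hx (h ▸
      ((genericPoint_spec Y.left).mem_open_set_iff U.2).2 (by simpa using ⟨_, hUne.some.2⟩))
    rw [ringKrullDim_stalk_eq_coheight]
    have hlt : x < genericPoint Y.left := lt_of_le_not_ge (genericPoint_specializes x) fun h =>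
      hne (Specializes.antisymm (show x ⤳ genericPoint Y.left from h) (genericPoint_specializes x)).eq
    have h1 : (1 : ℕ∞) ≤ Order.coheight x := le_trans le_add_self (Order.coheight_add_one_le hlt)
    exact_mod_cast h1
  have hZ₀φ : (φ.app Z₀).hom b = 0 := by
    refine phi_eq_zero_of_gen φ (hG5 Z₀) ?_ b
    rintro _ ⟨W, h, hW, hWdim, rfl⟩
    rw [phi_map, IH W hW (hWdim _ (by simpa using hZ₀)), map_zero]
  have hb' := congrArg (φ.app Y).hom hb
  rw [phi_map, hZ₀φ, map_zero, map_sub, phi_map, hkey, map_zero, zero_sub] at hb'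
  exact neg_eq_zero.1 hb'.symm

/-- The detection lemma. -/
theorem phi_eq_zero (hi : G.GenLE t one d) (X : SchFT T) (a : G.F.obj X) : (φ.app X).hom a = 0 := by
  refine phi_eq_zero_of_gen φ (hi X) ?_ a
  rintro _ ⟨Y, f, hY, hdim, rfl⟩
  have h2 : ∀ W : SchFT T, IsIntegral W.left → DimLE (W.hom ≫ t) (d - 2) → (φ.app W).hom (one W) = 0 :=
    fun W _ hW => by haveI := hii W hW; exact Subsingleton.elim _ _
  have h1 : ∀ W : SchFT T, IsIntegral W.left → DimLE (W.hom ≫ t) (d - 1) → (φ.app W).hom (one W) = 0 :=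
    step t one hG2 hH2 hG3 hG4a hG4b hG5 φ hiv hqe hii hv (by omega)
      (fun W hW hd => h2 W hW (by rwa [show d - 1 - 1 = d - 2 by ring] at hd))
  rw [phi_map, step t one hG2 hH2 hG3 hG4a hG4b hG5 φ hiv hqe hii hv le_rfl h1 Y hY hdim, map_zero]

end Groth.Agent.H02CA.Detect
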